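import Mathlib.Algebra.MvPolynomial.Equiv
import Mathlib.RingTheory.MvPolynomial.Basic
import Mathlib.RingTheory.Ideal.Quotient.Operations
import Mathlib.RingTheory.RingHom.Flat
import Mathlib.RingTheory.Flat.TorsionFree
import Mathlib.RingTheory.IntegralClosure.IsIntegralClosure.Basic
import Mathlib.FieldTheory.IsAlgClosed.Basic
import Mathlib.RingTheory.Polynomial.Quotient

/-! # Pulling apart a punctual ideal of the plane -/

set_option autoImplicit false
set_option linter.style.haveILetI false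

universe u

open Polynomial

namespace Groth.Agent.Punctual3

variable {k : Type u} [Field k]

local notation "A₂" => MvPolynomial (Fin 2) k

/-- Reordering the two variables: `X i ↦ t`, `X j ↦ y`. -/
noncomputable def toBi (i : Fin 2) : A₂ →ₐ[k] k[X][X] :=
  MvPolynomial.aeval fun l => if l = i then C X else X

/-- The inverse substitution. -/
noncomputable def ofBi (i j : Fin 2) : k[X][X] →+* A₂ :=
  eval₂RingHom (eval₂RingHom (MvPolynomial.C) (MvPolynomial.X i)) (MvPolynomial.X j)

theorem ofBi_toBi {i j : Fin 2} (hij : i ≠ j) (f : A₂) : ofBi i j (toBi i f) = f := by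
  have h : (ofBi i j).comp (toBi (k := k) i).toRingHom = RingHom.id A₂ := by
    refine MvPolynomial.ringHom_ext (fun r => ?_) fun l => ?_
    · simp [ofBi, toBi, Polynomial.algebraMap_apply]
    · by_cases hl : l = i
      · subst hl; simp [ofBi, toBi]
      · have : l = j := by omega
        subst this
        simp [ofBi, toBi, hl]
  exact RingHom.congr_fun h f

theorem toBi_ofBi {i j : Fin 2} (hij : i ≠ j) (F : k[X][X]) : toBi i (ofBi i j F) = F := by
  have h : (toBi (k := k) i).toRingHom.comp (ofBi i j) = RingHom.id k[X][X] := by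
    refine Polynomial.ringHom_ext (fun p => ?_) (by simp [ofBi, toBi, hij.symm])
    have h' : ((toBi (k := k) i).toRingHom.comp (ofBi i j)).comp C = C := by
      refine Polynomial.ringHom_ext (fun r => ?_) (by simp [ofBi, toBi])
      simp [ofBi, toBi, Polynomial.algebraMap_apply]
    exact RingHom.congr_fun h' p
  exact RingHom.congr_fun h F

theorem sub_C_eval_mem (p : Fin 2 → k) (f : A₂) :
    f - MvPolynomial.C (MvPolynomial.eval p f) ∈
      Ideal.span (Set.range fun l : Fin 2 => MvPolynomial.X l - MvPolynomial.C (p l)) := by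
  induction f using MvPolynomial.induction_on with
  | C a => simp
  | add f g hf hg => rw [map_add, map_add, add_sub_add_comm]; exact Ideal.add_mem _ hf hg
  | mul_X f l hf =>
    rw [map_mul, MvPolynomial.eval_X, map_mul]
    have e : f * MvPolynomial.X l - MvPolynomial.C (MvPolynomial.eval p f) * MvPolynomial.C (p l) =
        (f - MvPolynomial.C (MvPolynomial.eval p f)) * MvPolynomial.X l +
          MvPolynomial.C (MvPolynomial.eval p f) * (MvPolynomial.X l - MvPolynomial.C (p l)) := by ring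
    rw [e]
    exact Ideal.add_mem _ (Ideal.mul_mem_right _ _ hf) (Ideal.mul_mem_left _ _ (Ideal.subset_span ⟨l, rfl⟩))

variable (𝔞 : Ideal (MvPolynomial (Fin 2) k))

/-- The normal form of a punctual ideal along a variable: an element `y^m + x h` of the ideal. -/
theorem exists_monic_mem (i j : Fin 2) (hij : i ≠ j)
    (hsupp : 𝔞.radical = Ideal.span {MvPolynomial.X 0, MvPolynomial.X 1}) :
    ∃ (m : ℕ) (H : k[X][X]), 0 < m ∧ H.degree < (m : WithBot ℕ) ∧ ofBi i j (X ^ m + C X * H) ∈ 𝔞 ∧
      ∀ f ∈ 𝔞, (X : k[X]) ^ m ∣ (toBi i f).map (evalRingHom (0 : k)) := by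
  classical
  have hX : ∀ l : Fin 2, ∃ N, (MvPolynomial.X l : A₂) ^ N ∈ 𝔞 := fun l => by
    have : (MvPolynomial.X l : A₂) ∈ 𝔞.radical := by
      rw [hsupp]
      fin_cases l <;> exact Ideal.subset_span (by simp)
    exact this
  obtain ⟨Ny, hNy⟩ := hX j
  obtain ⟨Nx, hNx⟩ := hX i
  let e0 : A₂ →+* k[X] := (mapRingHom (evalRingHom (0 : k))).comp (toBi i).toRingHom
  have e0_ofBi : ∀ F : k[X][X], e0 (ofBi i j F) = F.map (evalRingHom (0 : k)) := fun F => by
    simp [e0, toBi_ofBi hij]
  have hker : ∀ f, e0 f = 0 → ∃ f', f = MvPolynomial.X i * f' := fun f hf => by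
    have hC : C (X : k[X]) ∣ toBi i f := by
      rw [C_dvd_iff_dvd_coeff]
      intro n
      rw [X_dvd_iff, coeff_zero_eq_eval_zero]
      simpa [e0, coeff_map] using congrArg (fun p => p.coeff n) hf
    obtain ⟨q, hq⟩ := hC
    exact ⟨ofBi i j q, by rw [← ofBi_toBi hij f, hq, map_mul]; simp [ofBi]⟩
  have hsec : ∀ P : k[X], e0 (ofBi i j (P.map C)) = P := fun P => by
    rw [e0_ofBi, Polynomial.map_map, show (evalRingHom (0 : k)).comp C = RingHom.id k from
      RingHom.ext fun a => eval_C, Polynomial.map_id]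
  have hsurj : Function.Surjective e0 := fun P => ⟨_, hsec P⟩
  have hNy' : (X : k[X]) ^ Ny ∈ 𝔞.map e0 := by
    have : e0 (MvPolynomial.X j ^ Ny) = (X : k[X]) ^ Ny := by simp [e0, toBi, hij.symm]
    rw [← this]; exact Ideal.mem_map_of_mem _ hNy
  obtain ⟨q, hq⟩ : ∃ q, 𝔞.map e0 = Ideal.span {q} := ⟨_, (Ideal.span_singleton_generator (𝔞.map e0)).symm⟩
  obtain ⟨m, -, hm⟩ := (dvd_prime_pow Polynomial.prime_X Ny).1 (Ideal.mem_span_singleton.1 (hq ▸ hNy'))
  rw [Ideal.span_singleton_eq_span_singleton.2 hm] at hq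
  have hm0 : 0 < m := by
    by_contra h0
    have h0' : m = 0 := by omega
    subst h0'
    rw [pow_zero, Ideal.span_singleton_one] at hq
    obtain ⟨a, ha, ha'⟩ := (Ideal.mem_map_iff_of_surjective e0 hsurj).1
      (show (1 : k[X]) ∈ 𝔞.map e0 by rw [hq]; trivial)
    obtain ⟨f', hf'⟩ := hker (a - 1) (by rw [map_sub, ha', map_one, sub_self])
    have h1 : (1 : A₂) ∈ Ideal.span {MvPolynomial.X 0, MvPolynomial.X 1} := by
      have ha2 : a ∈ Ideal.span {MvPolynomial.X 0, MvPolynomial.X 1} := hsupp ▸ Ideal.le_radical ha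
      have hXi : (MvPolynomial.X i : A₂) ∈ Ideal.span {MvPolynomial.X 0, MvPolynomial.X 1} := by
        fin_cases i <;> exact Ideal.subset_span (by simp)
      rw [show (1 : A₂) = a - MvPolynomial.X i * f' by rw [← hf']; ring]
      exact Ideal.sub_mem _ ha2 (Ideal.mul_mem_right _ _ hXi)
    have h2 : Ideal.span {MvPolynomial.X 0, MvPolynomial.X 1} ≤ RingHom.ker (MvPolynomial.constantCoeff (R := k) (σ := Fin 2)) := by
      rw [Ideal.span_le]
      rintro _ (rfl | rfl) <;> simp
    simpa using h2 h1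
  obtain ⟨a, ha, ha'⟩ := (Ideal.mem_map_iff_of_surjective e0 hsurj).1
    (show (X : k[X]) ^ m ∈ 𝔞.map e0 by rw [hq]; exact Ideal.mem_span_singleton_self _)
  obtain ⟨h, hh⟩ := hker (a - MvPolynomial.X j ^ m) (by
    rw [map_sub, ha']; simp [e0, toBi, hij.symm])
  have hg : MvPolynomial.X j ^ m + MvPolynomial.X i * h ∈ 𝔞 := by
    rw [← hh, add_sub_cancel]; exact ha
  have hXj : ofBi i j (X ^ m : k[X][X]) = MvPolynomial.X j ^ m := by simp [ofBi]
  have hred : ∀ (N : ℕ) (f : A₂), ∃ R : k[X][X], R.degree < (m : WithBot ℕ) ∧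
      f - ofBi i j R ∈ 𝔞 ⊔ Ideal.span {MvPolynomial.X i ^ N} := by
    intro N
    induction N with
    | zero =>
      exact fun f => ⟨0, by rw [degree_zero]; exact WithBot.bot_lt_coe m, Ideal.mem_sup_right (by simp)⟩
    | succ N ih =>
      intro f
      obtain ⟨R, hR, hfR⟩ := ih f
      obtain ⟨a₁, ha₁, b₁, hb₁, hab⟩ := Submodule.mem_sup.1 hfR
      obtain ⟨f₁, rfl⟩ := Ideal.mem_span_singleton'.1 hb₁
      let P := e0 f₁
      have hP : e0 (f₁ - ofBi i j ((P %ₘ X ^ m).map C) - ofBi i j ((P /ₘ X ^ m).map C) * MvPolynomial.X j ^ m) = 0 := by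
        rw [map_sub, map_sub, map_mul, hsec, hsec,
          show e0 (MvPolynomial.X j ^ m) = (X : k[X]) ^ m by simp [e0, toBi, hij.symm]]
        have := modByMonic_add_div P (X ^ m : k[X])
        linear_combination -this
      obtain ⟨f₂, hf₂⟩ := hker _ hP
      refine ⟨R + C (X ^ N) * (P %ₘ X ^ m).map C, ?_, ?_⟩
      · refine (degree_add_le _ _).trans_lt (max_lt hR ?_)
        refine (degree_mul_le _ _).trans_lt ?_
        rw [degree_C (pow_ne_zero _ X_ne_zero), zero_add, degree_map_eq_of_injective C_injective]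
        exact (degree_modByMonic_lt P (monic_X_pow m)).trans_eq (degree_X_pow m)
      · have e : f - ofBi i j (R + C (X ^ N) * (P %ₘ X ^ m).map C) =
            (a₁ + ofBi i j ((P /ₘ X ^ m).map C) * MvPolynomial.X i ^ N * (MvPolynomial.X j ^ m + MvPolynomial.X i * h)) +
            (f₂ - ofBi i j ((P /ₘ X ^ m).map C) * h) * MvPolynomial.X i ^ (N + 1) := by
          rw [map_add, map_mul, show ofBi i j (C (X ^ N) : k[X][X]) = MvPolynomial.X i ^ N by simp [ofBi, eval₂_pow]]
          linear_combination -hab + MvPolynomial.X i ^ N * hf₂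
        rw [e]
        exact Submodule.add_mem_sup (Ideal.add_mem _ ha₁ (Ideal.mul_mem_left _ _ hg))
          (Ideal.mul_mem_left _ _ (Ideal.mem_span_singleton_self _))
  obtain ⟨H, hH, hhH⟩ := hred Nx h
  refine ⟨m, H, hm0, hH, ?_, fun f hf => ?_⟩
  · have hh' : h - ofBi i j H ∈ 𝔞 := by
      rw [sup_eq_left.2 ((Ideal.span_singleton_le_iff_mem _).2 hNx)] at hhH
      exact hhH
    rw [map_add, map_mul, hXj, show ofBi i j (C X : k[X][X]) = MvPolynomial.X i by simp [ofBi]]
    have e : MvPolynomial.X j ^ m + MvPolynomial.X i * ofBi i j H =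
        (MvPolynomial.X j ^ m + MvPolynomial.X i * h) - MvPolynomial.X i * (h - ofBi i j H) := by ring
    rw [e]
    exact Ideal.sub_mem _ hg (Ideal.mul_mem_left _ _ hh')
  · have : e0 f ∈ 𝔞.map e0 := Ideal.mem_map_of_mem _ hf
    rw [hq] at this
    exact Ideal.mem_span_singleton.1 this

/-- Substituting `x = t` in a family. -/
noncomputable def subst (i : Fin 2) : (MvPolynomial (Fin 2) k)[X] →+* k[X][X] :=
  eval₂RingHom (toBi i).toRingHom (C X)

/-- The pulled apart family. -/
noncomputable def family (i j : Fin 2) (G : k[X][X]) : Ideal (MvPolynomial (Fin 2) k)[X] :=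
  (𝔞.colon ({MvPolynomial.X i} : Set A₂)).map C * Ideal.span {C (MvPolynomial.X i) - X} ⊔
    Ideal.span {C (ofBi i j G)}

theorem subst_section {i j : Fin 2} (hij : i ≠ j) (f : (MvPolynomial (Fin 2) k)[X]) :
    ∃ u, f = (Polynomial.eval₂ (mapRingHom (algebraMap k A₂)) (C (MvPolynomial.X j)) (subst i f)) +
      (C (MvPolynomial.X i) - X) * u := by
  set l : (MvPolynomial (Fin 2) k)[X] := C (MvPolynomial.X i) - X
  let s : k[X][X] →+* (MvPolynomial (Fin 2) k)[X] :=
    eval₂RingHom (mapRingHom (algebraMap k A₂)) (C (MvPolynomial.X j))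
  have h : (Ideal.Quotient.mk (Ideal.span {l})).comp (s.comp (subst i)) = Ideal.Quotient.mk (Ideal.span {l}) := by
    refine Polynomial.ringHom_ext' (MvPolynomial.ringHom_ext (fun r => ?_) fun n => ?_) ?_
    · simp [s, subst, toBi, Polynomial.algebraMap_apply, MvPolynomial.algebraMap_eq]
    · by_cases hn : n = i
      · subst hn
        simp [s, subst, toBi]
        rw [Ideal.Quotient.eq]
        exact Ideal.mem_span_singleton.2 ⟨-1, by ring⟩
      · have : n = j := by omega
        subst this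
        simp [s, subst, toBi, hn]
    · simp [s, subst, toBi]
  have := RingHom.congr_fun h f
  simp only [RingHom.comp_apply] at this
  rw [Ideal.Quotient.eq, Ideal.mem_span_singleton] at this
  obtain ⟨u, hu⟩ := this
  exact ⟨-u, show f = s (subst i f) + l * -u by linear_combination -hu⟩

theorem subst_comp_mapRingHom (i : Fin 2) (p : k[X]) :
    subst i (mapRingHom (algebraMap k A₂) p) = C p := by
  have h : (subst (k := k) i).comp (mapRingHom (algebraMap k A₂)) = C := by
    refine Polynomial.ringHom_ext (fun r => ?_) ?_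
    · simp [subst, toBi, Polynomial.algebraMap_apply, MvPolynomial.algebraMap_eq]
    · simp [subst]
  exact RingHom.congr_fun h p

end Groth.Agent.Punctual3
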