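import Groth.Agent.Lib.Punctual3.Basic
import Mathlib.RingTheory.Ideal.Colon
import Mathlib.RingTheory.Adjoin.FG
import Mathlib.RingTheory.FiniteType

/-! # The family is flat and finite -/

set_option autoImplicit false
set_option linter.style.haveILetI false

universe u

open Polynomial

namespace Groth.Agent.Punctual3

variable {k : Type u} [Field k]

local notation "A₂" => MvPolynomial (Fin 2) k

variable (𝔞 : Ideal (MvPolynomial (Fin 2) k)) {i j : Fin 2} (hij : i ≠ j) {m : ℕ} {H : k[X][X]}

/-- The distinguished element. -/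
noncomputable def gen (m : ℕ) (H : k[X][X]) : k[X][X] := X ^ m + C X * H

theorem gen_monic (hH : H.degree < (m : WithBot ℕ)) : (gen m H).Monic :=
  monic_X_pow_add ((degree_mul_le _ _).trans_lt (by rwa [degree_C X_ne_zero, zero_add]))

theorem gen_natDegree (hH : H.degree < (m : WithBot ℕ)) : (gen m H).natDegree = m := by
  refine natDegree_eq_of_degree_eq_some ?_
  rw [gen, degree_add_eq_left_of_degree_lt, degree_X_pow]
  rw [degree_X_pow]
  exact (degree_mul_le _ _).trans_lt (by rwa [degree_C X_ne_zero, zero_add])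

theorem mem_family {i j : Fin 2} {G : k[X][X]} {z : (MvPolynomial (Fin 2) k)[X]}
    (h : z ∈ family 𝔞 i j G) :
    ∃ (w : (MvPolynomial (Fin 2) k)[X]) (v : (MvPolynomial (Fin 2) k)[X]),
      w ∈ (𝔞.colon ({MvPolynomial.X i} : Set A₂)).map C ∧
        z = w * (C (MvPolynomial.X i) - X) + v * C (ofBi i j G) := by
  obtain ⟨a, ha, b, hb, rfl⟩ := Submodule.mem_sup.1 h
  obtain ⟨w, hw, rfl⟩ := Ideal.mem_mul_span_singleton.1 ha
  obtain ⟨v, rfl⟩ := Ideal.mem_span_singleton'.1 hb
  exact ⟨w, v, hw, rfl⟩

theorem le_colon {f : A₂} (hf : f ∈ 𝔞) : f ∈ 𝔞.colon ({MvPolynomial.X i} : Set A₂) :=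
  Submodule.mem_colon_singleton.2 (by rw [smul_eq_mul]; exact Ideal.mul_mem_right _ _ hf)

theorem subst_C (i : Fin 2) (f : A₂) : subst (k := k) i (C f) = toBi i f := by simp [subst]

theorem subst_l (i : Fin 2) : subst (k := k) i (C (MvPolynomial.X i) - X) = 0 := by simp [subst, toBi]

include hij in
theorem family_flat {S : Type u} [CommRing S] (π : (MvPolynomial (Fin 2) k)[X] →+* S) (hπ : Function.Surjective π)
    (hker : RingHom.ker π = family 𝔞 i j (gen m H))
    (hH : H.degree < (m : WithBot ℕ)) (hg : ofBi i j (gen m H) ∈ 𝔞) :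
    (π.comp (mapRingHom (algebraMap k A₂))).Flat := by
  letI := (π.comp (mapRingHom (algebraMap k A₂))).toAlgebra
  show Module.Flat k[X] S
  suffices htf : ∀ (p : k[X]), p ≠ 0 → ∀ f : (MvPolynomial (Fin 2) k)[X],
      mapRingHom (algebraMap k A₂) p * f ∈ family 𝔞 i j (gen m H) → f ∈ family 𝔞 i j (gen m H) by
    haveI : Module.IsTorsionFree k[X] S := by
      refine Module.IsTorsionFree.of_smul_eq_zero fun p z hz => ?_
      obtain ⟨f, rfl⟩ := hπ z
      refine or_iff_not_imp_left.2 fun hp => ?_
      rw [← RingHom.mem_ker, hker]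
      refine htf p hp f ?_
      rw [← hker, RingHom.mem_ker, map_mul]
      exact hz
    infer_instance
  intro p hp f hf
  set G := gen m H with hG
  set l : (MvPolynomial (Fin 2) k)[X] := C (MvPolynomial.X i) - X with hl
  set 𝔟 := 𝔞.colon ({MvPolynomial.X i} : Set A₂) with h𝔟
  have hmon : G.Monic := gen_monic hH
  obtain ⟨w, v, hw, hwv⟩ := mem_family 𝔞 hf
  have h1 : C p * subst i f = subst i v * G := by
    have := congrArg (subst i) hwv
    rw [map_mul, map_add, map_mul, map_mul, subst_l, mul_zero, zero_add, subst_C, toBi_ofBi hij,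
      subst_comp_mapRingHom] at this
    exact this
  have h2 : G ∣ subst i f := by
    have : (C p * subst i f) %ₘ G = C p * (subst i f %ₘ G) := by
      rw [← smul_eq_C_mul, ← smul_eq_C_mul, smul_modByMonic]
    rw [← modByMonic_eq_zero_iff_dvd hmon]
    rw [h1, (modByMonic_eq_zero_iff_dvd hmon).2 (dvd_mul_left G _)] at this
    exact (mul_eq_zero.1 this.symm).resolve_left (fun h => hp (C_eq_zero.1 h))
  obtain ⟨q, hq⟩ := h2
  let s : k[X][X] →+* (MvPolynomial (Fin 2) k)[X] :=
    eval₂RingHom (mapRingHom (algebraMap k A₂)) (C (MvPolynomial.X j))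
  obtain ⟨u₀, hu₀⟩ := subst_section hij (f - s q * C (ofBi i j G))
  have hsq : subst i (f - s q * C (ofBi i j G)) = 0 := by
    have hsec : ∀ F, subst i (s F) = F := fun F => by
      have h : (subst (k := k) i).comp s = RingHom.id k[X][X] := by
        refine Polynomial.ringHom_ext (fun r => ?_) ?_
        · simpa [s] using subst_comp_mapRingHom (k := k) i r
        · simp [s, subst, toBi, hij.symm]
      exact RingHom.congr_fun h F
    rw [map_sub, map_mul, hsec, subst_C, toBi_ofBi hij, hq, mul_comm, sub_self]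
  rw [hsq, eval₂_zero, zero_add] at hu₀
  suffices hu : u₀ ∈ 𝔟.map C by
    have e : f = u₀ * l + s q * C (ofBi i j G) := by linear_combination hu₀
    rw [e]
    exact Submodule.add_mem_sup (Ideal.mul_mem_mul hu (Ideal.mem_span_singleton_self _))
      (Ideal.mem_span_singleton'.2 ⟨_, rfl⟩)
  have h3 : (mapRingHom (algebraMap k A₂) p * u₀ - w) * l =
      (v - mapRingHom (algebraMap k A₂) p * s q) * C (ofBi i j G) := by
    linear_combination hwv - mapRingHom (algebraMap k A₂) p * hu₀
  obtain ⟨v', hv'⟩ := subst_section hij (v - mapRingHom (algebraMap k A₂) p * s q)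
  have h4 : subst i (v - mapRingHom (algebraMap k A₂) p * s q) = 0 := by
    have := congrArg (subst i) h3
    rw [map_mul, map_mul, subst_l, mul_zero, subst_C, toBi_ofBi hij] at this
    exact (mul_eq_zero.1 this.symm).resolve_right hmon.ne_zero
  rw [h4, eval₂_zero, zero_add] at hv'
  rw [hv'] at h3
  have hl0 : l ≠ 0 := fun h => by
    have := congrArg (fun z : (MvPolynomial (Fin 2) k)[X] => z.coeff 1) h
    simp [l] at this
  have h5 : mapRingHom (algebraMap k A₂) p * u₀ = w + v' * C (ofBi i j G) := by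
    have : (mapRingHom (algebraMap k A₂) p * u₀ - w - v' * C (ofBi i j G)) * l = 0 := by
      linear_combination h3
    linear_combination (mul_eq_zero.1 this).resolve_right hl0
  have h6 : mapRingHom (algebraMap k A₂) p * u₀ ∈ 𝔟.map C := by
    rw [h5]
    exact Ideal.add_mem _ hw (Ideal.mul_mem_left _ _ (Ideal.mem_map_of_mem _ (le_colon 𝔞 hg)))
  have h7 : (mapRingHom (Ideal.Quotient.mk 𝔟)) (mapRingHom (algebraMap k A₂) p * u₀) = 0 := by
    rw [← RingHom.mem_ker, ker_mapRingHom, Ideal.mk_ker]
    exact h6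
  have hp' : (mapRingHom (algebraMap k A₂) (p * C p.leadingCoeff⁻¹)).Monic :=
    (monic_mul_leadingCoeff_inv hp).map _
  have h8 : (mapRingHom (Ideal.Quotient.mk 𝔟)) u₀ = 0 := by
    refine (hp'.map (Ideal.Quotient.mk 𝔟)).mul_right_eq_zero_iff.1 ?_
    show mapRingHom (Ideal.Quotient.mk 𝔟) (mapRingHom (algebraMap k A₂) (p * C p.leadingCoeff⁻¹)) *
      mapRingHom (Ideal.Quotient.mk 𝔟) u₀ = 0
    rw [← map_mul, show mapRingHom (algebraMap k A₂) (p * C p.leadingCoeff⁻¹) * u₀ =
      (mapRingHom (algebraMap k A₂) p * u₀) * mapRingHom (algebraMap k A₂) (C p.leadingCoeff⁻¹) by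
        rw [map_mul]; ring, map_mul, h7, zero_mul]
  rw [← RingHom.mem_ker, ker_mapRingHom, Ideal.mk_ker] at h8
  exact h8

include hij in
theorem family_finite {M : Type u} [CommRing M] (π : (MvPolynomial (Fin 2) k)[X] →+* M) (hπ : Function.Surjective π)
    (hker : RingHom.ker π = family 𝔞 i j (gen m H))
    (hH : H.degree < (m : WithBot ℕ)) (hg : ofBi i j (gen m H) ∈ 𝔞)
    (hsupp : ∀ n : Fin 2, ∃ N, (MvPolynomial.X n : A₂) ^ N ∈ 𝔞) :
    (π.comp (mapRingHom (algebraMap k A₂))).Finite := by
  classical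
  set I := family 𝔞 i j (gen m H) with hI
  set l : (MvPolynomial (Fin 2) k)[X] := C (MvPolynomial.X i) - X with hl
  letI := (π.comp (mapRingHom (algebraMap k A₂))).toAlgebra
  let g : Fin 2 → M := fun n => π (C (MvPolynomial.X n))
  show Module.Finite k[X] M
  have hgen : Algebra.adjoin k[X] (Set.range g) = ⊤ := by
    rw [eq_top_iff]
    rintro z -
    obtain ⟨z, rfl⟩ := hπ z
    induction z using Polynomial.induction_on' with
    | add a b ha hb => rw [map_add]; exact add_mem ha hb
    | monomial n a =>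
      rw [← C_mul_X_pow_eq_monomial, map_mul, map_pow]
      refine mul_mem ?_ (pow_mem ?_ n)
      · induction a using MvPolynomial.induction_on with
        | C r =>
          have : π (C (MvPolynomial.C r)) = algebraMap k[X] M (C r) := by
            show _ = π (mapRingHom (algebraMap k A₂) (C r))
            simp [MvPolynomial.algebraMap_eq]
          rw [this]; exact Subalgebra.algebraMap_mem _ _
        | add a b ha hb => rw [map_add, map_add]; exact add_mem ha hb
        | mul_X a n ha => rw [map_mul, map_mul]; exact mul_mem ha (Algebra.subset_adjoin ⟨n, rfl⟩)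
      · have : π X = algebraMap k[X] M X := by
          show _ = π (mapRingHom (algebraMap k A₂) X)
          simp
        rw [this]; exact Subalgebra.algebraMap_mem _ _
  have halg : ∀ r : k[X], algebraMap k[X] M r = π (mapRingHom (algebraMap k A₂) r) := fun _ => rfl
  have hmem : ∀ b : (MvPolynomial (Fin 2) k)[X], b ∈ (𝔞.colon ({MvPolynomial.X i} : Set A₂)).map C → b * l ∈ I :=
    fun b hb => Ideal.mem_sup_left (Ideal.mul_mem_mul hb (Ideal.mem_span_singleton_self _))
  have hint : ∀ n, IsIntegral k[X] (g n) := by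
    intro n
    obtain ⟨N, hN⟩ := hsupp n
    have hCN : C (MvPolynomial.X n ^ N) ∈ (𝔞.colon ({MvPolynomial.X i} : Set A₂)).map (C : A₂ →+* A₂[X]) :=
      Ideal.mem_map_of_mem _ (le_colon 𝔞 hN)
    by_cases hn : n = i
    · subst hn
      refine ⟨(X ^ N * (X - C X) : k[X][X]), (monic_X_pow N).mul (monic_X_sub_C _), ?_⟩
      rw [eval₂_mul, eval₂_X_pow, eval₂_sub, eval₂_X, eval₂_C]
      rw [halg, coe_mapRingHom, map_X, ← map_pow, ← map_sub, ← map_mul, ← RingHom.mem_ker, hker, ← C_pow]
      exact hmem _ hCN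
    · have : n = j := by omega
      subst this
      refine ⟨(X ^ N * gen m H : k[X][X]), (monic_X_pow N).mul (gen_monic hH), ?_⟩
      rw [eval₂_mul, eval₂_X_pow]
      let s : k[X][X] →+* (MvPolynomial (Fin 2) k)[X] :=
        eval₂RingHom (mapRingHom (algebraMap k A₂)) (C (MvPolynomial.X n))
      have hev : ∀ F : k[X][X], F.eval₂ (algebraMap k[X] M) (g n) = π (s F) := fun F =>
        (Polynomial.hom_eval₂ F (mapRingHom (algebraMap k A₂)) (π) (C (MvPolynomial.X n))).symm
      rw [hev, ← map_pow, ← map_mul, ← RingHom.mem_ker, hker, ← C_pow]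
      obtain ⟨u, hu⟩ := subst_section hij (C (ofBi i n (gen m H)))
      rw [subst_C, toBi_ofBi hij] at hu
      have hs : s (gen m H) = C (ofBi i n (gen m H)) - l * u := eq_sub_of_add_eq hu.symm
      rw [hs]
      have e : C (MvPolynomial.X n ^ N) * (C (ofBi i n (gen m H)) - l * u) =
          C (MvPolynomial.X n ^ N) * C (ofBi i n (gen m H)) - (C (MvPolynomial.X n ^ N) * u) * l := by ring
      rw [e]
      exact Ideal.sub_mem _ (Ideal.mem_sup_right (Ideal.mul_mem_left _ _ (Ideal.mem_span_singleton_self _)))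
        (hmem _ (Ideal.mul_mem_right _ _ hCN))
  haveI : Algebra.IsIntegral k[X] M := ⟨fun z => by
    have hle : Algebra.adjoin k[X] (Set.range g) ≤ integralClosure k[X] M :=
      Algebra.adjoin_le (by rintro _ ⟨n, rfl⟩; exact hint n)
    exact hle (hgen ▸ Algebra.mem_top)⟩
  haveI : Algebra.FiniteType k[X] M := ⟨(hgen ▸ Subalgebra.fg_def.2 ⟨_, Set.finite_range g, rfl⟩ :)⟩
  exact Algebra.IsIntegral.finite

theorem exists_family [IsAlgClosed k] [Module.Finite k (MvPolynomial (Fin 2) k ⧸ 𝔞)]
    (hn : 2 ≤ Module.finrank k (MvPolynomial (Fin 2) k ⧸ 𝔞))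
    (hsupp : 𝔞.radical = Ideal.span {MvPolynomial.X 0, MvPolynomial.X 1}) :
    ∃ 𝔞' : Ideal (MvPolynomial (Fin 2) k)[X],
      RingHom.Flat (R := k[X]) (S := (MvPolynomial (Fin 2) k)[X] ⧸ 𝔞')
        ((Ideal.Quotient.mk 𝔞').comp (Polynomial.mapRingHom (algebraMap k (MvPolynomial (Fin 2) k)))) ∧
      RingHom.Finite (A := k[X]) (B := (MvPolynomial (Fin 2) k)[X] ⧸ 𝔞')
        ((Ideal.Quotient.mk 𝔞').comp (Polynomial.mapRingHom (algebraMap k (MvPolynomial (Fin 2) k)))) ∧
      Ideal.map (Polynomial.evalRingHom (0 : MvPolynomial (Fin 2) k)) 𝔞' = 𝔞 ∧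
      ∀ c : k, c ≠ 0 →
        Ideal.map (Polynomial.evalRingHom (MvPolynomial.C c)) 𝔞' ≤ Ideal.span {MvPolynomial.X 0, MvPolynomial.X 1} ∧
        ∃ p : Fin 2 → k, p ≠ 0 ∧
          Ideal.map (Polynomial.evalRingHom (MvPolynomial.C c)) 𝔞' ≤
            Ideal.span (Set.range (fun i : Fin 2 => MvPolynomial.X i - MvPolynomial.C (p i))) := by
  classical
  have hm : Ideal.span {MvPolynomial.X 0, MvPolynomial.X 1} =
      RingHom.ker (MvPolynomial.constantCoeff (R := k) (σ := Fin 2)) := by
    refine le_antisymm (Ideal.span_le.2 (by rintro _ (rfl | rfl) <;> simp)) fun f hf => ?_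
    have := sub_C_eval_mem (0 : Fin 2 → k) f
    rw [MvPolynomial.eval_zero, RingHom.mem_ker.1 hf, map_zero, sub_zero] at this
    refine Ideal.span_le.2 ?_ this
    rintro _ ⟨l, rfl⟩
    fin_cases l <;> simp <;> exact Ideal.subset_span (by simp)
  obtain ⟨i, hi⟩ : ∃ i : Fin 2, (MvPolynomial.X i : A₂) ∉ 𝔞 := by
    by_contra hne
    push Not at hne
    have hle : RingHom.ker (MvPolynomial.constantCoeff (R := k) (σ := Fin 2)) ≤ 𝔞 := by
      rw [← hm, Ideal.span_le]
      rintro _ (rfl | rfl) <;> exact hne _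
    have h1 : ∀ z : MvPolynomial (Fin 2) k ⧸ 𝔞, ∃ c : k, c • (1 : MvPolynomial (Fin 2) k ⧸ 𝔞) = z := fun z => by
      obtain ⟨f, rfl⟩ := Ideal.Quotient.mk_surjective z
      refine ⟨MvPolynomial.constantCoeff f, ?_⟩
      show Ideal.Quotient.mk 𝔞 (MvPolynomial.constantCoeff f • 1) = _
      rw [MvPolynomial.smul_eq_C_mul, mul_one]
      exact Ideal.Quotient.eq.2 (hle (by simp))
    exact absurd (finrank_le_one (1 : MvPolynomial (Fin 2) k ⧸ 𝔞) h1) (by omega)
  let j : Fin 2 := i + 1
  have hij : i ≠ j := by show i ≠ i + 1; omega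
  obtain ⟨m, H, hm0, hH, hg, hdvd⟩ := exists_monic_mem 𝔞 i j hij hsupp
  have hX : ∀ l : Fin 2, ∃ N, (MvPolynomial.X l : A₂) ^ N ∈ 𝔞 := fun l => by
    have : (MvPolynomial.X l : A₂) ∈ 𝔞.radical := by
      rw [hsupp]
      fin_cases l <;> exact Ideal.subset_span (by simp)
    exact this
  set I := family 𝔞 i j (gen m H) with hI
  have hflat := family_flat 𝔞 hij (S := (MvPolynomial (Fin 2) k)[X] ⧸ I) (Ideal.Quotient.mk I)
    Ideal.Quotient.mk_surjective (Ideal.mk_ker (I := I)) hH hg
  have hfin := family_finite 𝔞 hij (M := (MvPolynomial (Fin 2) k)[X] ⧸ I) (Ideal.Quotient.mk I)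
    Ideal.Quotient.mk_surjective (Ideal.mk_ker (I := I)) hH hg hX
  refine ⟨I, hflat, hfin, ?_, ?_⟩
  all_goals simp only [hI]
  · rw [family, Ideal.map_sup, Ideal.map_mul, Ideal.map_map,
      show (evalRingHom (0 : A₂)).comp C = RingHom.id A₂ from RingHom.ext fun a => eval_C,
      Ideal.map_id, Ideal.map_span, Ideal.map_span, Set.image_singleton, Set.image_singleton]
    simp only [coe_evalRingHom, eval_sub, eval_C, eval_X, sub_zero]
    refine le_antisymm (sup_le ?_ ((Ideal.span_singleton_le_iff_mem _).2 hg)) fun f hf => ?_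
    · intro z hz
      obtain ⟨b, hb, rfl⟩ := Ideal.mem_mul_span_singleton.1 hz
      exact Submodule.mem_colon_singleton.1 hb
    · obtain ⟨r, hr⟩ := hdvd f hf
      let q : A₂ := ofBi i j (r.map C)
      have h0 : C (X : k[X]) ∣ toBi i (f - q * ofBi i j (gen m H)) := by
        rw [C_dvd_iff_dvd_coeff]
        intro n
        rw [X_dvd_iff, coeff_zero_eq_eval_zero]
        have e : (toBi i (f - q * ofBi i j (gen m H))).map (evalRingHom (0 : k)) = 0 := by
          have hC : (evalRingHom (0 : k)).comp C = RingHom.id k := RingHom.ext fun a => eval_C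
          simp [q, toBi_ofBi hij, hr, gen, Polynomial.map_map, hC, mul_comm]
        have := congrArg (fun p => p.coeff n) e
        simp only [coeff_map, coeff_zero] at this
        exact this
      obtain ⟨Q, hQ⟩ := h0
      have hb : f - q * ofBi i j (gen m H) = ofBi i j Q * MvPolynomial.X i := by
        rw [← ofBi_toBi hij (f - _), hQ, map_mul]
        simp [ofBi]
        ring
      rw [Submodule.mem_sup]
      refine ⟨ofBi i j Q * MvPolynomial.X i, Ideal.mem_mul_span_singleton.2 ⟨_, ?_, rfl⟩,
        q * ofBi i j (gen m H), Ideal.mem_span_singleton'.2 ⟨q, rfl⟩, by rw [← hb, sub_add_cancel]⟩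
      rw [Submodule.mem_colon_singleton, smul_eq_mul, ← hb]
      exact Ideal.sub_mem _ hf (Ideal.mul_mem_left _ _ hg)
  · intro c hc
    constructor
    · rw [family, Ideal.map_sup, Ideal.map_mul, Ideal.map_map,
        show (evalRingHom (MvPolynomial.C c : A₂)).comp C = RingHom.id A₂ from RingHom.ext fun a => eval_C,
        Ideal.map_id, Ideal.map_span, Ideal.map_span, Set.image_singleton, Set.image_singleton]
      refine sup_le (Ideal.mul_le_left.trans ?_) ?_
      · intro b hb
        by_contra hb'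
        apply hi
        have hu : IsUnit (Ideal.Quotient.mk 𝔞 b) := by
          have hbC : b - MvPolynomial.C (MvPolynomial.constantCoeff b) ∈ 𝔞.radical := by
            rw [hsupp, hm]; simp
          obtain ⟨N, hN⟩ := hbC
          have hnil : IsNilpotent (Ideal.Quotient.mk 𝔞 b - Ideal.Quotient.mk 𝔞 (MvPolynomial.C (MvPolynomial.constantCoeff b))) :=
            ⟨N, by rw [← map_sub, ← map_pow]; exact Ideal.Quotient.eq_zero_iff_mem.2 hN⟩
          have hc0 : MvPolynomial.constantCoeff b ≠ 0 := fun h => hb' (hm ▸ RingHom.mem_ker.2 h)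
          have := IsNilpotent.isUnit_add_right_of_commute hnil
            ((hc0.isUnit.map MvPolynomial.C).map (Ideal.Quotient.mk 𝔞)) (Commute.all _ _)
          simpa using this
        have h0 := Submodule.mem_colon_singleton.1 hb
        rw [smul_eq_mul, ← Ideal.Quotient.eq_zero_iff_mem, map_mul] at h0
        exact Ideal.Quotient.eq_zero_iff_mem.1 ((hu.mul_right_eq_zero).1 h0)
      · rw [Ideal.span_singleton_le_iff_mem, ← hsupp]
        simp only [coe_evalRingHom, eval_C]
        exact Ideal.le_radical hg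
    · have hdeg : ((gen m H).map (evalRingHom c)).degree ≠ 0 := by
        rw [(gen_monic hH).degree_map, degree_eq_natDegree (gen_monic hH).ne_zero, gen_natDegree hH]
        exact_mod_cast hm0.ne'
      obtain ⟨r, hr⟩ := IsAlgClosed.exists_root _ hdeg
      let p : Fin 2 → k := fun l => if l = i then c else r
      refine ⟨p, fun h => hc (by simpa [p] using congrFun h i), ?_⟩
      rw [family, Ideal.map_sup, Ideal.map_mul, Ideal.map_span, Ideal.map_span, Set.image_singleton,
        Set.image_singleton]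
      simp only [coe_evalRingHom, eval_sub, eval_C, eval_X]
      refine sup_le (Ideal.mul_le_right.trans ?_) ?_
      · rw [Ideal.span_singleton_le_iff_mem]
        refine Ideal.subset_span ⟨i, ?_⟩
        simp [p]
      · rw [Ideal.span_singleton_le_iff_mem]
        have h0 : MvPolynomial.eval p (ofBi i j (gen m H)) = 0 := by
          have h : (MvPolynomial.eval p).comp (ofBi i j) = eval₂RingHom (evalRingHom c) r := by
            refine Polynomial.ringHom_ext (fun F => ?_) (by simp [ofBi, p, hij.symm])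
            induction F using Polynomial.induction_on' with
            | add a b ha hb => rw [map_add, map_add, map_add, ha, hb]
            | monomial n a => simp [ofBi, p, ← C_mul_X_pow_eq_monomial, eval₂_pow]
          have := RingHom.congr_fun h (gen m H)
          rw [RingHom.comp_apply] at this
          rw [this, coe_eval₂RingHom, ← eval_map]
          exact hr
        have := sub_C_eval_mem p (ofBi i j (gen m H))
        rwa [h0, map_zero, sub_zero] at this

end Groth.Agent.Punctual3
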